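import Cfsg.Agent.CosetCert.Y522Index1080.Defs
import Cfsg.Agent.CosetCert.Lower
import Cfsg.Agent.CosetCert.Y522Order.Pts0
import Cfsg.Agent.CosetCert.Y522Order.Pos0

/-! Generated: one base point with its orbit. -/

set_option Elab.async false
set_option maxRecDepth 100000

namespace Cfsg.Agent.CosetCert.Y522Order

noncomputable def level0 : Data.Level where
  gens := [
    [0],
    [1],
    [2],
    [3],
    [4],
    [5],
    [6],
    [7],
    [8],
    [9]]
  base := 0
  size := 1080
  pts := fun j => force (get48 ptsStore0 j) fun e =>
    Nat.add (Nat.mul (Nat.div e 268435456) 1099511627776) (Nat.mod e 268435456)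
  pos := get48 posStore0

theorem gens0_ok : Cfsg.Agent.CosetCert.Y522Index1080.data.checkGens [] level0 = true := by decide +kernel

theorem pts0At0 : allFrom (Cfsg.Agent.CosetCert.Y522Index1080.data.checkPoint level0) 0 500 = true := by decide +kernel

theorem pts0At500 : allFrom (Cfsg.Agent.CosetCert.Y522Index1080.data.checkPoint level0) 500 500 = true := by decide +kernel

theorem pts0At1000 : allFrom (Cfsg.Agent.CosetCert.Y522Index1080.data.checkPoint level0) 1000 80 = true := by decide +kernel

theorem pts0_ok : ∀ j, j < 1080 → (Cfsg.Agent.CosetCert.Y522Index1080.data.checkPoint level0) j = true := by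
  have h0 : ∀ j, j < 0 → (Cfsg.Agent.CosetCert.Y522Index1080.data.checkPoint level0) j = true := forall_lt_zero
  have h1 := forall_lt_step (b := 500) h0 pts0At0 rfl
  have h2 := forall_lt_step (b := 1000) h1 pts0At500 rfl
  have h3 := forall_lt_step (b := 1080) h2 pts0At1000 rfl
  exact h3

end Cfsg.Agent.CosetCert.Y522Order
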