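import Cfsg.Agent.CosetCert.Pack

/-! Generated: orbit points. -/

set_option Elab.async false

namespace Cfsg.Agent.CosetCert.Y522Order

def ptsStore2 : Store := (.node 1 (.leaf 0x1450001418000560001405000550001402000a800012180002e0001020001c8000101f0030b000101200371000100f001830001009001cd0000f220002b0000f21000d50000f160030a0000f130036f0000f0e001860000f0a000d90000e16003700000e0e000da0000d18000d80000d16000f30000c1e003c60000c1c001a00000c16000100000c0e000f40000b1d003ca0000b1b001a20000b180000f0000b0d003d50000a0e0012b0000a00001c10000910001c70000909000d60000906002f500008220028f000082100114000082000249000081f001640000816001ed0000813003120000812003a8000080e001bc000080b000d40000806000d200008050012c000071d00412000071b0010c0000718000de0000717001c60000713000780000712001d00000710002f7000070f003d6000070d00309000070b001be00007090012d000070000182000061f0042c000061d003e9000061b000a700006190028a0000612000ab000060200189000052200424000051e003f9000051c000a5000051a000a60000516002910000513002f1000050e001c9000050a000a100005040010e00004180010b00004160004000004050003c0000403000c1000031d00362000031b0016500003180021300003170016300003160017b00002220018100002210017a000022000180000021f00210000021d0003d0000218000db00002170004100002160008000002150007900002140007f00002130007700002120002100002110001f000021000113000020f000ff000020e000f2000020d0010f000020c00020000020b000ca000020a000c000002090000b000020100142000012200146000012100141000012000147000011f0031400001170005a0000113000540000112000170000111000150000110000e0000010f000df000010e000d3000010d000d7000010c0002d000010b0009b000010a0009400001090010a00000220010d000002100109000002000116000001f000ac000000e000a4000000d0003f000000b000730000009000080000008000050000000000030000000)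 (.leaf 0x1cb0007603003080007302002b8000561f0033c000560e0036e0004c07001880004203002fc000411d0014a000401d0038000040160036d0003f21001840003f20002150003e120027c0003e0b003880003e09002fe0003c02001850003a220003e0003a210007c0003a1f002890003a13002ee0003a0e002f40003822002bc0003813002fd000380e0017e0003417002880003208002160003115003dd000310e002bd000310c00224000300b001bd0003006001c40002f060021a0002f00001bb0002e060020e0002e00001c00002d220024b0002d21003780002d1b0021e0002d0b001c50002d06002ef0002c00001bf0002a22001c30002a1f002230002a0b0014b0002a0100284000260d0007b00026030014900025220014c00025200017d000251800273000250e0007a000250500335000241c00338000231b0002c0002305003a1000221d0041d000221b002f000020150031b0002013003d4000200e001a10001f20001440001f1f0039a0001f1e0041c0001f1c001100001f1a001120001f16002200001f11002f60001f0e003d30001e1d0032c0001e1b001cc0001e17002250001d10001ec0001c180021f0001c110041e0001c0e002790001c0c002750001b1d000570001b18001110001b17000580001b16000160001b0b001eb0001a200017f0001a1f0020f0001a12002900001a0b001480001a010031100019200027d000191f0027e00019140024a000191200217000191000274000190f00376000190d00277000182200307000182100211000182000389000181f0024d00018130038d00018120037f000180e0017c0001722001ee0001721000a2000171f003de000171b0027f00017140021c0001713000a300017120021b000171000278000170f00377000170d00287000170b0021200017090014d00017010029f00016060014300015160005b0001504))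

end Cfsg.Agent.CosetCert.Y522Order
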