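import Cfsg.Agent.CosetCert.Pack

/-! Generated: orbit points. -/

set_option Elab.async false

namespace Cfsg.Agent.CosetCert.Y522Order

def ptsStore3 : Store := (.leaf 0x1a10001e0d0027f000170a001ee00017070016400014170024b000140a001c0000140300181000131100278000130300274000120b001eb0001207002f600011070021700011040021200011020017b000100c000a30001003001800000f13001ec0000f120017a0000f100017d0000f0f0027e0000f0d002790000f0b000a20000f04000f30000c07001440000b0d000f40000b07000d5000090c002f000008070021c00008040020f0000802002750000800003700000712001bd00007110012d0000710000d600007050017f0000700000a10000611001be0000610001a2000060f000c00000601000ab0000512001c1000051000146000050f002f1000050e000ca0000503000c100005020012c00004180010c0000414001c500004120037100004110012b0000410001a0000040e002bd000040b001c40000409002160000408001bb0000407000d400004060014100004010017c00004000010900003140010d000031300165000030f00163000030c000ff0000212001c6000021000143000020c0007f0000203001470000113000f20000111001bc000011000145000010f002f7000010d00142000010c00213000010b000780000104000770000101000de0000016000d200000150010a0000014001160000013000df0000012000d300000110021000000100010e000000f00094000000e0009b000000d0010b000000c00073000000a0005a00000040005400000020003f0000000)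

end Cfsg.Agent.CosetCert.Y522Order
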