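import Cfsg.Agent.CosetCert.Y522Index1080.Defs
import Cfsg.Agent.CosetCert.Lower
import Cfsg.Agent.CosetCert.Y522Order.Pts3
import Cfsg.Agent.CosetCert.Y522Order.Pos3

/-! Generated: one base point with its orbit. -/

set_option Elab.async false
set_option maxRecDepth 100000

namespace Cfsg.Agent.CosetCert.Y522Order

noncomputable def level3 : Data.Level where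
  gens := [
    [5, 4],
    [6, 4],
    [7, 4],
    [8, 4],
    [9, 4],
    [0, 6, 0],
    [0, 8, 0],
    [4, 5, 4],
    [3, 4, 5, 6, 8, 5, 4, 3, 9, 8, 5, 4, 6, 5, 7, 6, 8, 9, 5, 8, 4, 5, 6, 3, 4, 5, 8, 7, 6, 5, 4, 3],
    [1, 0, 2, 1, 0, 3, 2, 1, 0, 4, 3, 2, 1, 5, 4, 3, 2, 6, 5, 4, 3, 8, 5, 6, 4, 5, 8, 3, 4, 5, 6, 2, 3, 4, 5, 1, 2, 3, 4, 0, 1, 2, 3, 0],
    [2, 3, 2, 4, 3, 5, 4, 6, 5, 7, 6, 8, 5, 4, 3, 2, 6, 5, 4, 3, 7, 6, 5, 8, 5, 6, 7, 4, 5, 6, 3, 4, 5, 8, 7, 5, 6, 4, 5, 3, 4, 2, 3, 0],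
    [2, 3, 2, 4, 3, 5, 4, 6, 5, 8, 5, 4, 3, 2, 6, 5, 4, 3, 9, 8, 5, 4, 6, 5, 8, 9, 3, 4, 5, 6, 2, 3, 4, 5, 8, 5, 6, 4, 5, 3, 4, 2, 3, 0],
    [3, 2, 4, 3, 5, 4, 8, 5, 6, 7, 9, 8, 5, 4, 3, 6, 5, 4, 8, 5, 6, 7, 9, 8, 5, 6, 4, 5, 8, 9, 3, 4, 5, 8, 6, 7, 5, 6, 4, 5, 3, 4, 2, 3],
    [3, 2, 1, 0, 4, 3, 2, 1, 5, 4, 3, 2, 6, 5, 4, 3, 8, 5, 4, 6, 5, 9, 8, 9, 5, 6, 4, 5, 8, 3, 4, 5, 6, 2, 3, 4, 5, 1, 2, 3, 4, 0, 1, 2, 3],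
    [3, 2, 1, 0, 4, 3, 2, 1, 5, 4, 3, 2, 8, 5, 4, 3, 6, 5, 4, 7, 6, 5, 8, 5, 6, 7, 4, 5, 6, 3, 4, 5, 8, 2, 3, 4, 5, 1, 2, 3, 4, 0, 1, 2, 3],
    [3, 2, 4, 3, 5, 4, 6, 5, 7, 6, 8, 5, 4, 3, 9, 8, 5, 4, 6, 5, 7, 6, 8, 9, 5, 8, 4, 5, 6, 3, 4, 5, 8, 9, 7, 6, 5, 8, 4, 5, 3, 4, 2, 3],
    [3, 4, 5, 6, 7, 8, 5, 4, 6, 5, 8, 9, 8, 5, 4, 3, 6, 5, 4, 7, 6, 5, 8, 5, 6, 7, 4, 5, 6, 3, 4, 5, 8, 9, 8, 5, 6, 4, 5, 8, 7, 6, 5, 4, 3],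
    [1, 2, 3, 2, 1, 0, 4, 5, 6, 7, 8, 5, 4, 3, 2, 1, 6, 5, 4, 3, 2, 8, 5, 4, 6, 7, 5, 6, 3, 4, 5, 8, 5, 6, 7, 4, 5, 6, 3, 4, 5, 2, 3, 4, 1, 2, 3, 0],
    [1, 2, 3, 2, 1, 0, 4, 5, 6, 8, 5, 4, 3, 2, 1, 9, 8, 5, 4, 3, 2, 6, 5, 4, 8, 5, 6, 3, 4, 5, 8, 9, 8, 5, 6, 4, 5, 8, 3, 4, 5, 2, 3, 4, 1, 2, 3, 0],
    [2, 3, 2, 4, 5, 6, 7, 8, 5, 4, 3, 6, 5, 4, 8, 5, 6, 7, 9, 8, 5, 4, 3, 6, 5, 8, 9, 4, 5, 8, 6, 7, 5, 6, 4, 5, 8, 9, 3, 4, 5, 8, 6, 5, 4, 2, 3],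
    [2, 3, 2, 4, 5, 6, 8, 5, 4, 3, 9, 8, 5, 4, 6, 5, 7, 6, 8, 5, 4, 3, 9, 8, 5, 6, 4, 5, 8, 9, 7, 6, 5, 8, 4, 5, 6, 3, 4, 5, 8, 7, 6, 5, 4, 2, 3],
    [3, 2, 1, 4, 3, 2, 5, 4, 3, 6, 5, 4, 7, 6, 5, 8, 5, 4, 3, 2, 1, 0, 6, 5, 7, 6, 4, 5, 8, 3, 4, 5, 6, 2, 3, 4, 5, 8, 7, 6, 5, 4, 1, 2, 3, 2, 1, 0],
    [3, 2, 1, 4, 3, 2, 5, 4, 3, 8, 5, 4, 6, 5, 8, 9, 8, 5, 4, 3, 2, 1, 0, 6, 5, 8, 4, 5, 6, 3, 4, 5, 8, 9, 2, 3, 4, 5, 8, 6, 5, 4, 1, 2, 3, 2, 1, 0],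
    [1, 3, 2, 4, 3, 5, 4, 6, 5, 8, 5, 4, 3, 2, 1, 0, 6, 5, 4, 3, 2, 7, 6, 5, 4, 8, 5, 6, 7, 3, 4, 5, 6, 1, 2, 3, 4, 5, 8, 5, 6, 4, 5, 3, 4, 2, 3, 1, 2, 0],
    [1, 3, 2, 4, 3, 5, 4, 6, 5, 8, 5, 4, 3, 2, 1, 0, 6, 5, 4, 3, 2, 9, 8, 5, 4, 6, 5, 8, 9, 3, 4, 5, 6, 1, 2, 3, 4, 5, 8, 5, 6, 4, 5, 3, 4, 2, 3, 1, 2, 0]]
  base := 63
  size := 90
  pts := fun j => force (get48 ptsStore3 j) fun e =>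
    Nat.add (Nat.mul (Nat.div e 268435456) 1099511627776) (Nat.mod e 268435456)
  pos := get48 posStore3

theorem gens3_ok : Cfsg.Agent.CosetCert.Y522Index1080.data.checkGens [0, 1, 3] level3 = true := by decide +kernel

theorem pts3At0 : allFrom (Cfsg.Agent.CosetCert.Y522Index1080.data.checkPoint level3) 0 90 = true := by decide +kernel

theorem pts3_ok : ∀ j, j < 90 → (Cfsg.Agent.CosetCert.Y522Index1080.data.checkPoint level3) j = true := by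
  have h0 : ∀ j, j < 0 → (Cfsg.Agent.CosetCert.Y522Index1080.data.checkPoint level3) j = true := forall_lt_zero
  have h1 := forall_lt_step (b := 90) h0 pts3At0 rfl
  exact h1

end Cfsg.Agent.CosetCert.Y522Order
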