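import Cfsg.Agent.CosetCert.Pack

/-! Generated: orbit points. -/

set_option Elab.async false

namespace Cfsg.Agent.CosetCert.Y522Order

def ptsStore4 : Store := (.leaf 0x17d0001904001c000019020017c0001003002160000f020017f0000e03001430000d050014500008050010e00008000014600007060010c0000603001440000600002f100005070014100005040010b0000502002740000405001bb00004010027f0000305001c400003020017a00002070021c0000206000d600002030010d00002000020f0000107001810000106000d40000103000d50000102001090000100001bc0000007001c60000006000a30000002000a20000001000780000000)

end Cfsg.Agent.CosetCert.Y522Order
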