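import Cfsg.Agent.CosetCert.Pack

/-! Generated: places of orbit points. -/

set_option Elab.async false

namespace Cfsg.Agent.CosetCert.Y522Order

def posStore5 : Store := (.node 4 (.node 2 (.node 1 (.leaf 0x2000000000000000000000000000000000001000000000000000000000000000000000000000000000000000000000000000000000000000000000000000000000000) (.leaf 0x0)) (.node 3 (.leaf 0x0) (.leaf 0x6000000000000000000000000000000000000000000000000000000000005000000000000000000000000000000000000000000000000000000000000000000000000000000000000000000000000000000000000000000000000000000000000000000000000000000000000000000000000000000000000000000000000000000000000000000000000000000000000000000000000000000000000000000000000000000000000000000000000000000000000000000000000000000000000000000000000000000000000000000000000000000000000000000000000000000000000000000000000000000000000000000000000000000000000000000000000000000000000000000000000000000000000000000000000000000000000000000000000000000000000000000000000000000000000000000000000000000000000000000000000000000000000000000000000000000000000000000000000000000000000000000000000000000000000000000000000000000000000000000000000000000000000000000000000000000000000000000000000000000000000000000000004000000000000000000000000000000000003000000000000000000000000000000000000))) (.node 6 (.node 5 (.leaf 0x8000000000000000000000000000000000000000000000000000000000000000000000007000000000000000000000000000000000000000000000000000000000000000000000000000000000000000000000000000000000000000000000000000000000000000000000000000000000000000000000000000000000000000000000000000000000000000000000000000000000000000000000000000000000000000000000000000000000000000000000000000000000000000000000000000000000000000000000000000000000000000000000000000000000000)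 (.leaf 0x0)) (.node 7 (.leaf 0x0) (.node 8 (.leaf 0x0) (.leaf 0x0)))))

end Cfsg.Agent.CosetCert.Y522Order
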