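import Cfsg.Agent.CosetCert.Pack

/-! Generated: orbit points. -/

set_option Elab.async false

namespace Cfsg.Agent.CosetCert.Y522Order

def ptsStore5 : Store := (.leaf 0x22500002030021f0000202001cd0000103001c800001020018600000030018300000020000b0000001000080000000000050000000)

end Cfsg.Agent.CosetCert.Y522Order
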