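import Cfsg.Agent.CosetCert.Y522Index1080.Defs
import Cfsg.Agent.CosetCert.Lower
import Cfsg.Agent.CosetCert.Y522Order.Pts5
import Cfsg.Agent.CosetCert.Y522Order.Pos5

/-! Generated: one base point with its orbit. -/

set_option Elab.async false
set_option maxRecDepth 100000

namespace Cfsg.Agent.CosetCert.Y522Order

noncomputable def level5 : Data.Level where
  gens := [
    [5, 4],
    [4, 5, 4],
    [7, 6, 5, 4, 8, 5, 4, 6, 5, 7, 6, 9, 8, 5, 6, 4, 5, 8, 9, 8, 5, 6],
    [9, 8, 5, 4, 6, 5, 7, 6, 8, 5, 4, 9, 5, 8, 6, 7, 5, 6, 4, 5, 8, 7]]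
  base := 5
  size := 9
  pts := fun j => force (get48 ptsStore5 j) fun e =>
    Nat.add (Nat.mul (Nat.div e 268435456) 1099511627776) (Nat.mod e 268435456)
  pos := get48 posStore5

theorem gens5_ok : Cfsg.Agent.CosetCert.Y522Index1080.data.checkGens [0, 1, 3, 63, 120] level5 = true := by decide +kernel

theorem pts5At0 : allFrom (Cfsg.Agent.CosetCert.Y522Index1080.data.checkPoint level5) 0 9 = true := by decide +kernel

theorem pts5_ok : ∀ j, j < 9 → (Cfsg.Agent.CosetCert.Y522Index1080.data.checkPoint level5) j = true := by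
  have h0 : ∀ j, j < 0 → (Cfsg.Agent.CosetCert.Y522Index1080.data.checkPoint level5) j = true := forall_lt_zero
  have h1 := forall_lt_step (b := 9) h0 pts5At0 rfl
  exact h1

end Cfsg.Agent.CosetCert.Y522Order
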