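import Cfsg.Agent.CosetCert.Pack

/-! Generated: places of orbit points. -/

set_option Elab.async false

namespace Cfsg.Agent.CosetCert.Y522Order

def posStore6 : Store := (.node 4 (.node 2 (.node 1 (.leaf 0x1000000000000000000000000000000000000000000000000000000000000000000000000000000000000000000000000000000000000000000000000000000000000) (.leaf 0x0)) (.node 3 (.leaf 0x0) (.leaf 0x0))) (.node 6 (.node 5 (.leaf 0x0) (.leaf 0x0)) (.node 7 (.leaf 0x0) (.node 8 (.leaf 0x0) (.leaf 0x0)))))

end Cfsg.Agent.CosetCert.Y522Order
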