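import Cfsg.Agent.CosetCert.Pack

/-! Generated: orbit points. -/

set_option Elab.async false

namespace Cfsg.Agent.CosetCert.Y522Order

def ptsStore6 : Store := (.leaf 0xb0000000000080000000)

end Cfsg.Agent.CosetCert.Y522Order
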