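import Cfsg.Agent.CosetCert.Y522Index1080.Main
import Cfsg.Agent.CosetCert.Y522Index28431.Main
import Cfsg.Agent.CosetCert.Y521Index120.Main
import Cfsg.Agent.CosetCert.E7Index576.Main
import Cfsg.Agent.CosetCert.SymSeven5040.Main
import Cfsg.Agent.CosetCert.Y522Order.Level0
import Cfsg.Agent.CosetCert.Y522Order.Level1
import Cfsg.Agent.CosetCert.Y522Order.Level2
import Cfsg.Agent.CosetCert.Y522Order.Level3
import Cfsg.Agent.CosetCert.Y522Order.Level4
import Cfsg.Agent.CosetCert.Y522Order.Level5
import Cfsg.Agent.CosetCert.Y522Order.Level6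
import Cfsg.Agent.CosetCert.BaseFix

/-!
The subgroup on the nodes `l, k, a, b, c, d, e, f, h, i` of the presented group Fi24 has order at
most that of a faithful permutation group on 1080 points; so the spider word has order dividing 10.
-/

set_option maxRecDepth 100000

namespace Cfsg.Agent.CosetCert.Y522Order

open Y522Index1080

/-- The relators of Fi24. -/
abbrev rels24 : Set (FreeGroup Cfsg.Spor.Fi24.Gen) :=
  Cfsg.Spor.coxRelators Cfsg.Spor.Fi24.edges ∪ {r | r ∈ Cfsg.Spor.Fi24.extra}

/-- The nodes `a, b, c, d, e, f, h` and `l` among the ten. -/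
def f8 : Fin 8 → Fin 10
  | ⟨0, _⟩ => 0
  | ⟨n + 1, h⟩ => ⟨n + 2, by omega⟩

/-- The nodes `a, b, c, d, e, f` among the ten. -/
def f6 : Fin 6 → Fin 10 := fun x => ⟨x.val + 2, by omega⟩

/-- The renamed words are relators. -/
def relsIn {k : Nat} (W : List (List (Fin k × Bool))) (f : Fin k → Fin 10) : Bool :=
  W.all fun l => decide (l.map (fun a => (f a.1, a.2)) ∈ relWords)

theorem rels_mem {k : Nat} {W : List (List (Fin k × Bool))} {f : Fin k → Fin 10}
    (h : relsIn W f = true) : ∀ l ∈ W, PresentedGroup.mk (wordRels relWords)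
      (FreeGroup.mk (l.map fun a => (f a.1, a.2))) = 1 := fun l hl =>
  PresentedGroup.one_of_mem (List.mem_map_of_mem
    (of_decide_eq_true (List.all_eq_true.1 h l hl)))

theorem card_bound : Finite (PresentedGroup (wordRels relWords)) ∧
    Nat.card (PresentedGroup (wordRels relWords)) ≤ 9904359628800 := by
  have e : Y522Index28431.relWords = relWords := by decide +kernel
  have h3 := letterSub_card_le f6 (List.finRange 6) SymSeven5040.subLetters [] rfl
    List.mem_finRange (rels_mem (W := SymSeven5040.relWords) (by decide +kernel))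
    SymSeven5040.index_bound (letterSub_nil_card (wordRels relWords))
  have h2 := letterSub_card_le f8 (List.finRange 8) E7Index576.subLetters
    ((List.finRange 6).map f6) (by decide +kernel)
    List.mem_finRange (rels_mem (W := E7Index576.relWords) (by decide +kernel))
    E7Index576.index_bound h3
  have h1 := letterSub_card_le (fun x : Fin 9 => x.castSucc) (List.finRange 9)
    Y521Index120.subLetters ((List.finRange 8).map f8) (by decide +kernel)
    List.mem_finRange (rels_mem (W := Y521Index120.relWords) (by decide +kernel))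
    Y521Index120.index_bound h2
  have h0 := Y522Index28431.index_bound
  rw [e] at h0
  obtain ⟨hf, hc⟩ := card_le_top ((List.finRange 9).map fun x : Fin 9 => x.castSucc)
    (congrArg (List.map FreeGroup.of) (show Y522Index28431.subLetters = _ by decide +kernel))
    h0 h1
  exact ⟨hf, hc.trans (by decide +kernel)⟩

noncomputable def levels : List Data.Level :=
  [level0, level1, level2, level3, level4, level5, level6]

theorem levels_ok : data.LevelsOK [] levels :=
  ⟨⟨by decide +kernel, gens0_ok, pts0_ok⟩, ⟨by decide +kernel, gens1_ok, pts1_ok⟩,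
    ⟨by decide +kernel, gens2_ok, pts2_ok⟩, ⟨by decide +kernel, gens3_ok, pts3_ok⟩,
    ⟨by decide +kernel, gens4_ok, pts4_ok⟩, ⟨by decide +kernel, gens5_ok, pts5_ok⟩,
    ⟨by decide +kernel, gens6_ok, pts6_ok⟩, trivial⟩

/-- The spider word to the tenth power, on the ten nodes. -/
def spiderTen : List (Fin 10 × Bool) :=
  (List.replicate 10 [5, 4, 3, 5, 6, 7, 5, 8, 9]).flatten.map fun x : Fin 10 => (x, true)

theorem spiderTen_eq_one :
    PresentedGroup.mk (wordRels relWords) (FreeGroup.mk spiderTen) = 1 := by
  obtain ⟨φ, π, _, hfwd⟩ := Data.enumeration valid spells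
  exact Data.eq_one_of_fixes_bases valid spells φ hfwd card_bound.1 card_bound.2 (by norm_num)
    levels levels_ok (by decide +kernel) spiderTen (by decide +kernel) (by decide +kernel)

theorem mk_eq_prod : ∀ l : List (Cfsg.Spor.Fi24.Gen × Bool),
    PresentedGroup.mk rels24 (FreeGroup.mk l) =
      (l.map fun a => (PresentedGroup.of a.1 : PresentedGroup rels24)).prod := by
  intro l
  induction l with
  | nil => exact map_one _
  | cons a t ih =>
    rw [List.map_cons, List.prod_cons, ← ih,
      show FreeGroup.mk (a :: t) = FreeGroup.mk [a] * FreeGroup.mk t from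
        (FreeGroup.mul_mk (L₁ := [a]) (L₂ := t)).symm, map_mul]
    congr 1
    obtain ⟨x, _ | _⟩ := a
    · have hn : x ∈ Cfsg.Spor.coxNodes Cfsg.Spor.Fi24.edges := by cases x <;> decide
      have h2 := PresentedGroup.one_of_mem (rels := rels24)
        (x := FreeGroup.of x * FreeGroup.of x)
        (Or.inl ⟨x, hn, x, hn, by simp [Cfsg.Spor.coxLabel]⟩)
      rw [map_mul] at h2
      show PresentedGroup.mk rels24 (FreeGroup.of x)⁻¹ = _
      rw [map_inv]
      exact inv_eq_of_mul_eq_one_right h2
    · rfl

theorem spider_ten : (PresentedGroup.mk rels24 (Cfsg.Spor.Fi24.d * Cfsg.Spor.Fi24.c *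
    Cfsg.Spor.Fi24.b * Cfsg.Spor.Fi24.d * Cfsg.Spor.Fi24.e * Cfsg.Spor.Fi24.f *
    Cfsg.Spor.Fi24.d * Cfsg.Spor.Fi24.h * Cfsg.Spor.Fi24.i)) ^ 10 = 1 := by
  have hR : (relWords.all fun l => decide (l.map (fun a => ren a.1) ∈
      (coxWords [.l, .k, .a, .b, .c, .d, .e, .f, .h, .i, .g, .j]
        Cfsg.Spor.Fi24.edges Cfsg.Spor.Fi24.extra).map (List.map Prod.fst))) = true := by
    decide +kernel
  have hnodes : ∀ b : Cfsg.Spor.Fi24.Gen, b ∈ Cfsg.Spor.coxNodes Cfsg.Spor.Fi24.edges := by
    intro b; cases b <;> decide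
  obtain ⟨ψ, hψ⟩ := exists_rename (rels := rels24) relWords ren fun l hl => by
    obtain ⟨w, hw, hwl⟩ := List.mem_map.1 (of_decide_eq_true (List.all_eq_true.1 hR l hl))
    have e : PresentedGroup.mk rels24 (FreeGroup.mk (l.map fun a => (ren a.1, a.2))) =
        PresentedGroup.mk rels24 (FreeGroup.mk w) := by
      rw [mk_eq_prod, mk_eq_prod, List.map_map]
      calc (l.map _).prod = ((l.map fun a => ren a.1).map fun x =>
              (PresentedGroup.of x : PresentedGroup rels24)).prod := by rw [List.map_map]; rfl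
        _ = ((w.map Prod.fst).map fun x =>
              (PresentedGroup.of x : PresentedGroup rels24)).prod := by rw [← hwl]
        _ = (w.map _).prod := by rw [List.map_map]; rfl
    rw [e]
    apply PresentedGroup.one_of_mem
    rcases List.mem_append.1 hw with h | h
    · obtain ⟨p, _, hp⟩ := List.mem_map.1 h
      exact Or.inl ⟨p.1, hnodes _, p.2, hnodes _, by rw [← hp, mk_powPair]⟩
    · obtain ⟨r, hr, hp⟩ := List.mem_map.1 h
      exact Or.inr (by rwa [← hp, FreeGroup.mk_toWord])
  have h := congrArg ψ spiderTen_eq_one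
  rw [map_one, hψ, FreeGroup.map.mk] at h
  rw [← map_pow]
  refine Eq.trans (congrArg _ ?_) h
  decide +kernel

end Cfsg.Agent.CosetCert.Y522Order
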